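import Groth.Agent.Lib.FInj62.Quot
import Groth.Agent.Lib.LCFin.PuncturedArt
import Groth.Agent.Lib.Snapper.Twist

/-!
# The top local cohomology with supports of the additive group is torsion
-/

set_option autoImplicit false
set_option backward.isDefEq.respectTransparency false

universe u

open CategoryTheory CategoryTheory.Limits CategoryTheory.Abelian AlgebraicGeometry Opposite

noncomputable section

namespace Groth.Agent.Lib.FInj62

open Groth.Agent.Lib.EtJ Groth.Agent.Lib.EtSite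

theorem ev_comp {X U : Scheme.{u}} (j : U ⟶ X) [IsOpenImmersion j] {G G' : EtCoh.Ab X}
    (a : MayerVietoris.free j ⟶ G) (m : G ⟶ G') :
    MayerVietoris.ev j G' (a ≫ m) = m.hom.app (op (MayerVietoris.obj j)) (MayerVietoris.ev j G a) := by
  refine (PullSec.pullSec_bijective j G').1 ?_
  rw [MayerVietoris.pullSec_ev, MayerVietoris.hom_comp, PullSec.elem_comp, ← MayerVietoris.pullSec_ev,
    PullSec.pullSec_natural]

theorem restr_mulC {X U : Scheme.{u}} (j : U ⟶ X) [IsOpenImmersion j] (r : Γ(X, ⊤)) :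
    (EtShriek.restrAlong j).map (EtQCoh.GaEnd.mulC r) ≫ (H91.EtASDepth.restrGa j).hom =
      (H91.EtASDepth.restrGa j).hom ≫ EtQCoh.GaEnd.mulC (j.appTop.hom r) := by
  apply Sheaf.hom_ext
  ext V ⟨s⟩
  refine ULift.ext _ _ ?_
  let y : Γ(V.unop.left, ⊤) := s
  show ((show V.unop.left ⟶ U from V.unop.hom) ≫ j).appTop.hom r * y =
    (show V.unop.left ⟶ U from V.unop.hom).appTop.hom (j.appTop.hom r) * y
  rw [Scheme.Hom.comp_appTop]
  rfl

variable {R : Type u} [CommRing R] [IsNoetherianRing R] [HenselianLocalRing R]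
  [IsSepClosed (IsLocalRing.ResidueField R)]

local notation "P" => LocCoh.puncturedOpen R (IsLocalRing.maximalIdeal R)

theorem torsion_zero (a : MayerVietoris.free (Scheme.Opens.ι P) ⟶ EtCoh.Ga (X R)) :
    ∃ n : ℕ, ∀ c ∈ IsLocalRing.maximalIdeal R ^ n, ∃ φ : EtCoh.const (X R) ℤ ⟶ EtCoh.Ga (X R),
      MayerVietoris.aug (Scheme.Opens.ι P) ≫ φ = a ≫ mul R c := by
  open Groth.Agent.Lib.LCFin.PuncturedArt Groth.Agent.H20.TildeSections in
  let I := IsLocalRing.maximalIdeal R
  let M := ModuleCat.of R R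
  let t : Γ((P : Scheme.{u}), ⊤) := (MayerVietoris.ev (Scheme.Opens.ι P) _ a).down
  obtain ⟨x, hx⟩ := Groth.Agent.Lib.LCFin.PuncturedArt.sec_surjective I M t
  obtain ⟨n, hn⟩ := Groth.Agent.H20.TildeSections.powerTorsion_coker M I (Submodule.Quotient.mk x)
  refine ⟨n, fun c hc => ?_⟩
  obtain ⟨b, hb⟩ := (Submodule.Quotient.mk_eq_zero _).1 ((Submodule.Quotient.mk_smul _ c x).trans (hn c hc))
  refine ⟨(PullSec.elem (X R) _).symm (ULift.up (iot R b)), (MayerVietoris.ev _ _).injective ?_⟩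
  rw [MayerVietoris.ev_aug, AddEquiv.apply_symm_apply, ev_comp]
  refine ULift.ext _ _ ?_
  have e : (H91.EtASDepth.objHom (Scheme.Opens.ι P)).left = Scheme.Opens.ι P :=
    (Category.comp_id _).symm.trans (MorphismProperty.Over.w (H91.EtASDepth.objHom (Scheme.Opens.ι P)))
  show (H91.EtASDepth.objHom (Scheme.Opens.ι P)).left.appTop.hom (iot R b) =
    (Scheme.Opens.ι P).appTop.hom (iot R c) * t
  rw [e]
  rw [← hx]
  refine Subtype.ext (funext fun z => ?_)
  let z' : (P : TopologicalSpace.Opens _) := ⟨z.1, (Scheme.Opens.ι_image_top P).le z.2⟩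
  refine (congrArg (fun v => v.1 z') hb).trans ?_
  show _ = algebraMap R (StructureSheaf.Localizations R z'.1) c * x.1 z'
  show algebraMap R (StructureSheaf.Localizations R z'.1) c • x.1 z' = _
  exact smul_eq_mul _ _

omit [IsNoetherianRing R] [HenselianLocalRing R] [IsSepClosed (IsLocalRing.ResidueField R)] in
/-- An element of an Artinian module over a local ring is killed by powers of non-units. -/
theorem exists_pow_smul_eq_zero {A : Type u} [CommRing A] [IsLocalRing A] {r : A}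
    (hr : r ∈ IsLocalRing.maximalIdeal A) {M : Type*} [AddCommGroup M] [Module A M] [IsArtinian A M] (v : M) :
    ∃ n : ℕ, r ^ n • v = 0 := by
  obtain ⟨n, ⟨w, hw⟩, hd⟩ : ∃ n, ∃ w : Submodule.span A {v}, r ^ n.succ • w =
      r ^ n • (⟨v, Submodule.mem_span_singleton_self v⟩ : Submodule.span A {v}) := by
    obtain ⟨n, w, hw⟩ := IsArtinian.exists_pow_succ_smul_dvd r
      (⟨v, Submodule.mem_span_singleton_self v⟩ : Submodule.span A {v})
    exact ⟨n, w, hw⟩
  obtain ⟨a, rfl⟩ := Submodule.mem_span_singleton.1 hw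
  have h : r ^ n.succ • a • v = r ^ n • v := congrArg Subtype.val hd
  refine ⟨n, (IsLocalRing.isUnit_one_sub_self_of_mem_nonunits (r * a)
    (Ideal.mul_mem_right a _ hr)).smul_left_cancel.1 ?_⟩
  rw [smul_zero, sub_smul, one_smul, smul_smul, sub_eq_zero]
  rw [smul_smul] at h
  rw [show r * a * r ^ n = r ^ n.succ * a by rw [pow_succ]; ring]
  exact h.symm

theorem torsion_succ (i : ℕ) (x : Ext.{u + 1} (MayerVietoris.free (Scheme.Opens.ι P)) (EtCoh.Ga (X R)) (i + 1))
    {r : R} (hr : r ∈ IsLocalRing.maximalIdeal R) :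
    ∃ n : ℕ, x.comp (Ext.mk₀ (mul R (r ^ n))) (add_zero _) = 0 := by
  let j := Scheme.Opens.ι P
  let q : (EtCoh.pull j).obj (EtCoh.Ga (X R)) ⟶ EtCoh.Ga (P : Scheme.{u}) :=
    (Basic.pullIsoRestr j).hom.app _ ≫ (H91.EtASDepth.restrGa j).hom
  let y : EtCoh.H (P : Scheme.{u}) (EtCoh.Ga (P : Scheme.{u})) (i + 1) :=
    (MayerVietoris.Φ j _ (i + 1) x).comp (Ext.mk₀ q) (add_zero _)
  obtain ⟨e, he⟩ := EtQCoh.GaEnd.exists_equiv (X := (P : Scheme.{u})) (i + 1)
  haveI : IsArtinian R (Coh.HH (P : Scheme.{u}) (Coh.structureModule (P : Scheme.{u})) (i + 1)) :=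
    LCFin.PuncturedArt.isArtinian_coh _ (Snapper.Twist.isCoh_structureModule _) (i + 1) i.succ_pos
  obtain ⟨n, hzero⟩ := exists_pow_smul_eq_zero hr (e y)
  refine ⟨n, (MayerVietoris.Φ j _ (i + 1)).injective ?_⟩
  rw [map_zero]
  show ExtAdj.extTr _ _ _ _ _ = 0
  rw [ExtAdj.extTr_comp_mk₀]
  have hq : (EtCoh.pull j).map (mul R (r ^ n)) ≫ q = q ≫ EtQCoh.GaEnd.mulC (j.appTop.hom (iot R (r ^ n))) := by
    show _ ≫ (Basic.pullIsoRestr j).hom.app _ ≫ _ = _
    rw [← Category.assoc, (Basic.pullIsoRestr j).hom.naturality, Category.assoc, mul, restr_mulC,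
      ← Category.assoc]
  have : IsIso q := inferInstance
  have h2 : ((MayerVietoris.Φ j _ (i + 1) x).comp (Ext.mk₀ ((EtCoh.pull j).map (mul R (r ^ n)))) (add_zero _)).comp
      (Ext.mk₀ q) (add_zero _) = 0 := by
    rw [Ext.comp_assoc_of_third_deg_zero, Ext.mk₀_comp_mk₀, hq, ← Ext.mk₀_comp_mk₀,
      ← Ext.comp_assoc_of_third_deg_zero]
    exact e.injective ((he _ y).trans (hzero.trans (map_zero e).symm))
  have h3 := congrArg (fun v => Ext.comp v (Ext.mk₀ (inv q)) (add_zero (i + 1))) h2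
  simp only [Ext.zero_comp, Ext.comp_assoc_of_third_deg_zero, Ext.mk₀_comp_mk₀, Category.assoc,
    IsIso.hom_inv_id, Category.comp_id] at h3
  exact h3

end Groth.Agent.Lib.FInj62
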