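import Groth.Agent.Lib.FInj62.Sock
import Groth.Agent.Lib.FInj62.Torsion
import Groth.Agent.Lib.Regular.Quotient

/-!
# Artin–Schreier local cohomology of a regular strictly henselian ring
-/

set_option autoImplicit false

universe u

open CategoryTheory CategoryTheory.Limits CategoryTheory.Abelian AlgebraicGeometry Opposite

noncomputable section

namespace Groth.Agent.Lib.FInj62

open Groth.Agent.Lib.EtJ Groth.Agent.Lib.EtSite

variable {R : Type u} [CommRing R]

theorem chain_drop [HenselianLocalRing R] (l : List R) (hreg : RingTheory.Sequence.IsWeaklyRegular R l)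
    (hl : Ideal.ofList l = IsLocalRing.maximalIdeal R) :
    ∀ (k i : ℕ), i + k = l.length → Chain (l.drop i) (Ideal.ofList (l.take i))
  | 0, i, h => by
    rw [List.drop_eq_nil_of_le (by omega), List.take_of_length_le (by omega)]
    exact hl
  | k + 1, i, h => by
    have hi : i < l.length := by omega
    rw [← List.getElem_cons_drop hi]
    have hr := RingTheory.Sequence.IsWeaklyRegular.regular_mod_prev hreg i hi
    rw [Ideal.smul_eq_mul, Ideal.mul_top] at hr
    refine ⟨fun a ha => ?_, hl ▸ Ideal.subset_span (List.getElem_mem hi), ?_⟩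
    · refine (Submodule.Quotient.mk_eq_zero _).1 (hr (a₁ := Submodule.Quotient.mk a) (a₂ := 0) ?_)
      show l[i] • Submodule.Quotient.mk a = l[i] • (0 : R ⧸ Ideal.ofList (l.take i))
      rw [smul_zero, ← Submodule.Quotient.mk_smul, Submodule.Quotient.mk_eq_zero]
      exact ha
    · have h2 := chain_drop l hreg hl k (i + 1) (by omega)
      rwa [List.take_succ_eq_append_getElem hi, Ideal.ofList_append, Ideal.ofList_singleton] at h2

theorem exists_list (I : Ideal R) (h : I.FG) : ∃ l : List R, Ideal.ofList l = I ∧ l.length = I.spanFinrank := by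
  classical
  obtain ⟨s, hs, hsp⟩ := Submodule.FG.exists_span_set_encard_eq_spanFinrank h
  have hf : s.Finite := Set.finite_of_encard_eq_coe hs
  refine ⟨hf.toFinset.toList, ?_, ?_⟩
  · refine Eq.trans ?_ hsp
    rw [Ideal.ofList, Ideal.span]
    congr 1
    ext x
    simp
  · rw [Finset.length_toList, ← Nat.cast_inj (R := ℕ∞), ← hs, hf.encard_eq_coe_toFinset_card]

variable {p : ℕ} [Fact p.Prime] [CharP R p] [IsRegularLocalRing R] [HenselianLocalRing R]
  [IsSepClosed (IsLocalRing.ResidueField R)]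

local notation "P" => LocCoh.puncturedOpen R (IsLocalRing.maximalIdeal R)

theorem subsingleton_ext_const_top (d : ℕ) (hd : ringKrullDim R = d) (hd0 : 0 < d) :
    Subsingleton (Ext.{u + 1} (H91.EtASDepth.suppObj (Scheme.Opens.ι P)) (EtCoh.const (X R) (ZMod p)) d) := by
  classical
  have : IsNoetherianRing R := inferInstance
  obtain ⟨i, rfl⟩ := Nat.exists_eq_succ_of_ne_zero hd0.ne'
  have hspan : (IsLocalRing.maximalIdeal R).spanFinrank = i + 1 := by
    obtain ⟨e, he, he'⟩ := Regular.Quotient.exists_dim_eq (R := R)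
    rw [he']
    exact_mod_cast he.symm.trans hd
  obtain ⟨l, hl, hlen⟩ := exists_list (IsLocalRing.maximalIdeal R) (IsNoetherian.noetherian _)
  rw [hspan] at hlen
  have hreg := Regular.Quotient.isRegular_of_span_eq_maximalIdeal l hl (hlen.trans hspan.symm)
  have hchain : Chain l (⊥ : Ideal R) := by
    have h := chain_drop l hreg.1 hl l.length 0 (zero_add _)
    rwa [List.drop_zero, List.take_zero, Ideal.ofList_nil] at h
  have hdepth : ((i + 1 : ℕ) : ℕ∞) ≤ LocCoh.idealDepth (IsLocalRing.maximalIdeal R) R :=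
    hlen ▸ Depth.Basic.length_le_idealDepth hreg.1 (fun r hr => hl ▸ Ideal.subset_span hr)
  have hvan : ∀ q < l.length, Subsingleton (Ext.{u + 1} (H91.EtASDepth.suppObj (Scheme.Opens.ι P))
      (QD.triv R p).G q) := fun q hq =>
    H91.EtASDepth.subsingleton_ext_Ga R _ q (le_trans (Nat.cast_le.2 (by omega)) hdepth)
  obtain ⟨c, hcm, hsoc, hinj⟩ := sock (Scheme.Opens.ι P) l ⊥ (QD.triv R p) hchain hvan
  rw [hlen] at hinj
  let j := Scheme.Opens.ι P
  let S : ShortComplex (EtCoh.Ab (X R)) := ShortComplex.mk (ArtinSchreier.incl p (natCast_top R p))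
    (ArtinSchreier.frobSub p (natCast_top R p)) (ArtinSchreier.incl_frobSub p (natCast_top R p))
  have hS : S.ShortExact := ArtinSchreier.shortExact p (natCast_top R p)
  refine subsingleton_of_forall_eq 0 fun e => ?_
  suffices h : ∀ z : Ext.{u + 1} (H91.EtASDepth.suppObj j) (EtCoh.Ga (X R)) (i + 1),
      pc z (ArtinSchreier.frobSub p (natCast_top R p)) = 0 → z = 0 by
    have he : e.comp (Ext.mk₀ S.f) (add_zero _) = 0 := h _ ((pc_pc e S.f S.g).trans (by
      show e.comp (Ext.mk₀ (S.f ≫ S.g)) _ = 0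
      rw [S.zero, Ext.mk₀_zero, Ext.comp_zero]))
    obtain ⟨v, hv⟩ := Ext.covariant_sequence_exact₁ _ hS e he rfl
    exact hv.symm.trans ((congrArg (fun w => Ext.comp w hS.extClass rfl)
      (@Subsingleton.elim _ (hvan i (by omega)) v 0)).trans (Ext.zero_comp ..))
  intro z hz
  have hfz : pc z (frob R p) = z := by
    rw [frob, pc, Ext.mk₀_add, Ext.comp_add, Ext.comp_mk₀_id]
    exact (congrArg (· + z) hz).trans (zero_add z)
  -- torsion
  let T : ShortComplex (EtCoh.Ab (X R)) := ShortComplex.mk (MayerVietoris.aug j)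
    (cokernel.π (MayerVietoris.aug j)) (cokernel.condition _)
  have hT : T.ShortExact := { exact := ShortComplex.exact_of_g_is_cokernel _ (cokernelIsCokernel _) }
  obtain ⟨x, hx⟩ := Ext.contravariant_sequence_exact₃ hT (EtCoh.Ga (X R)) z
    (@Subsingleton.elim _ (StrictHens.H_subsingleton R (EtCoh.Ga (X R)) (i + 1) (by omega)) _ _)
    (show 1 + i = i + 1 from add_comm 1 i)
  have htor : ∀ r ∈ IsLocalRing.maximalIdeal R, ∃ n, pc z (mul R (r ^ n)) = 0 := by
    intro r hr
    rcases i with _ | i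
    · obtain ⟨a, rfl⟩ := (Ext.mk₀_bijective _ _).2 x
      obtain ⟨n, hn⟩ := torsion_zero (R := R) a
      obtain ⟨φ, hφ⟩ := hn (r ^ n) (Ideal.pow_mem_pow hr n)
      refine ⟨n, ?_⟩
      rw [← hx, pc, Ext.comp_assoc_of_third_deg_zero, Ext.mk₀_comp_mk₀, ← hφ, ← Ext.mk₀_comp_mk₀,
        ← Ext.comp_assoc_of_second_deg_zero]
      exact (congrArg (fun v => Ext.comp v (Ext.mk₀ φ) (add_zero 1)) hT.extClass_comp).trans (Ext.zero_comp ..)
    · obtain ⟨n, hn⟩ := torsion_succ (R := R) i x hr
      exact ⟨n, by rw [← hx, pc, Ext.comp_assoc_of_third_deg_zero, hn, Ext.comp_zero]⟩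
  let A : Ideal R :=
    { carrier := {r | pc z (mul R r) = 0}
      add_mem' := fun {a b} ha hb => by
        show pc z (mul R (a + b)) = 0
        rw [mul_add', pc, Ext.mk₀_add, Ext.comp_add]
        exact (congrArg₂ (· + ·) ha hb).trans (add_zero 0)
      zero_mem' := by
        show pc z (mul R 0) = 0
        have h0 : mul R (0 : R) = 0 := by
          have := mul_add' R (0 : R) 0
          rwa [add_zero, left_eq_add] at this
        rw [h0, pc, Ext.mk₀_zero, Ext.comp_zero]
      smul_mem' := fun a b hb => by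
        show pc z (mul R (a * b)) = 0
        rw [mul_mul, ← pc_pc, show pc z (mul R b) = 0 from hb, pc, Ext.zero_comp] }
  by_contra hz0
  have hone : (1 : R) ∉ A := fun h => hz0 (by
    have h' : pc z (mul R 1) = 0 := h
    rwa [mul_one', pc, Ext.comp_mk₀_id] at h')
  obtain ⟨N, hN⟩ := Ideal.exists_pow_le_of_le_radical_of_fg
    (show IsLocalRing.maximalIdeal R ≤ A.radical from fun r hr => htor r hr) (IsNoetherian.noetherian _)
  obtain ⟨s, hsA, hs⟩ : ∃ s, s ∉ A ∧ ∀ r ∈ IsLocalRing.maximalIdeal R, r * s ∈ A := by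
    have hex : ∃ k, IsLocalRing.maximalIdeal R ^ k ≤ A := ⟨N, hN⟩
    have hk := Nat.find_spec hex
    obtain ⟨k, hk'⟩ := Nat.exists_eq_succ_of_ne_zero (n := Nat.find hex) (fun h => hone (by
      rw [h, pow_zero, Ideal.one_eq_top] at hk; exact hk Submodule.mem_top))
    obtain ⟨s, hs, hsA⟩ := SetLike.not_le_iff_exists.1 (Nat.find_min hex (m := k) (by omega))
    exact ⟨s, hsA, fun r hr => hk (by rw [hk', pow_succ']; exact Ideal.mul_mem_mul hr hs)⟩
  have hp : ∀ b : R, pc (pc z (mul R b)) (frob R p) = pc z (mul R (b ^ p)) := fun b => by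
    rw [pc_pc, mul_frob, ← pc_pc, hfz]
  have step : ∀ s, s ∉ A → (∀ r ∈ IsLocalRing.maximalIdeal R, r * s ∈ A) →
      c * s ^ p ∉ A ∧ ∀ r ∈ IsLocalRing.maximalIdeal R, r * (c * s ^ p) ∈ A := by
    intro s hsA hs
    refine ⟨fun hc => ?_, fun r hr => ?_⟩
    · refine hinj (pc z (mul R s)) (fun r hr => ?_) (fun h => hsA h) ?_
      · show pc (pc z (mul R s)) (mul R r) = 0
        rw [pc_pc, ← mul_mul]
        exact hs r hr
      · show pc (pc z (mul R s)) (frob R p ≫ mul R c) = 0
        rw [← pc_pc, hp, pc_pc, ← mul_mul]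
        exact hc
    · rw [← _root_.mul_assoc]
      obtain ⟨a, ha, b, hb, hab⟩ := Submodule.mem_sup.1 (hsoc r hr)
      rw [(Submodule.mem_bot R).1 ha, zero_add] at hab
      rw [← hab]
      clear hab
      induction hb using Submodule.span_induction with
      | mem y hy =>
        obtain ⟨m, hm, rfl⟩ := hy
        show pc z (mul R (frobenius R p m * s ^ p)) = 0
        rw [frobenius_def, ← mul_pow, ← hp, show pc z (mul R (m * s)) = 0 from hs m hm, pc, Ext.zero_comp]
      | zero => rw [zero_mul]; exact A.zero_mem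
      | add y y' _ _ h h' => rw [add_mul]; exact A.add_mem h h'
      | smul t y _ h => rw [smul_eq_mul, _root_.mul_assoc]; exact A.mul_mem_left t h
  have hseq : ∀ k, ∃ s, s ∉ A ∧ (∀ r ∈ IsLocalRing.maximalIdeal R, r * s ∈ A) ∧
      s ∈ IsLocalRing.maximalIdeal R ^ k := by
    intro k
    induction k with
    | zero => exact ⟨s, hsA, hs, by rw [pow_zero, Ideal.one_eq_top]; exact Submodule.mem_top⟩
    | succ k ih =>
      obtain ⟨s, h1, h2, h3⟩ := ih
      refine ⟨c * s ^ p, (step s h1 h2).1, (step s h1 h2).2, ?_⟩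
      rw [pow_succ']
      exact Ideal.mul_mem_mul (hcm (fun h => by rw [h] at hlen; exact absurd hlen (by simp)))
        (Ideal.pow_mem_of_mem _ h3 _ (Fact.out : p.Prime).pos)
  obtain ⟨s', h1, -, h3⟩ := hseq N
  exact h1 (hN h3)

end Groth.Agent.Lib.FInj62
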