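import Groth.Agent.H91.EtASDepth.Main
import Groth.Agent.Lib.EtQCoh.AffGood
import Groth.Agent.Lib.EtQCoh.GaEnd
import Groth.Agent.Lib.EtSite.StrictHens
import Mathlib.RingTheory.Flat.FaithfullyFlat.Algebra
import Mathlib.AlgebraicGeometry.Morphisms.Flat

/-!
# Quotients of the etale additive group by ideals of the base
-/

set_option autoImplicit false

universe u

open CategoryTheory CategoryTheory.Limits CategoryTheory.Abelian AlgebraicGeometry Opposite

noncomputable section

namespace Groth.Agent.Lib.FInj62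

open Groth.Agent.Lib.EtQCoh Groth.Agent.Lib.EtSite

variable (R : Type u) [CommRing R]

/-- The base. -/
abbrev X : Scheme.{u} := Spec (CommRingCat.of R)

/-- The global functions of the base. -/
abbrev iot : R →+* Γ(X R, ⊤) := (Scheme.ΓSpecIso (CommRingCat.of R)).inv.hom

/-- The structure map of the functions on an object of the site. -/
def ψ (V : (X R).Etale) : R →+* Γ(V.left, ⊤) := (GaEnd.glob V).comp (iot R)

theorem ψ_comp {V W : (X R).Etale} (v : W ⟶ V) :
    v.left.appTop.hom.comp (ψ R V) = ψ R W := by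
  ext r
  show v.left.appTop.hom ((show V.left ⟶ X R from V.hom).appTop.hom (iot R r)) =
    (show W.left ⟶ X R from W.hom).appTop.hom (iot R r)
  rw [← CommRingCat.comp_apply, ← Scheme.Hom.comp_appTop]
  exact congrArg (fun m : W.left ⟶ X R => m.appTop.hom (iot R r)) (Over.w v.hom :)

theorem flat_ψ (V : (X R).Etale) [IsAffine V.left] : (ψ R V).Flat := by
  have : Etale V.hom := V.prop
  exact RingHom.Flat.comp
    (RingHom.Flat.of_bijective (ConcreteCategory.bijective_of_isIso
      (Scheme.ΓSpecIso (CommRingCat.of R)).inv))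
    (show (GaEnd.glob V).Flat from (show V.left ⟶ X R from V.hom).flat_appTop)

variable {R}

/-- Membership in an extended ideal descends along a faithfully flat cover. -/
theorem mem_of_cover {V W : (X R).Etale} [IsAffine V.left] [IsAffine W.left] (v : W ⟶ V) [Flat v.left]
    [Surjective v.left] {J : Ideal R} {s : Γ(V.left, ⊤)}
    (h : v.left.appTop.hom s ∈ J.map (ψ R W)) : s ∈ J.map (ψ R V) := by
  have hff : v.left.appTop.hom.FaithfullyFlat :=
    (Flat.flat_and_surjective_iff_faithfullyFlat_of_isAffine v.left).1 ⟨inferInstance, inferInstance⟩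
  algebraize [v.left.appTop.hom]
  rw [← Ideal.comap_map_eq_self_of_faithfullyFlat (B := Γ(W.left, ⊤)) (J.map (ψ R V)),
    Ideal.mem_comap, RingHom.algebraMap_toAlgebra, Ideal.map_map, ψ_comp]
  exact h

/-- A regular element stays regular modulo the extended ideal. -/
theorem mem_map_of_mul_mem {B : Type u} [CommRing B] {f : R →+* B} (hf : f.Flat) {J : Ideal R} {x : R}
    (hx : ∀ a, x * a ∈ J → a ∈ J) {b : B} (hb : f x * b ∈ J.map f) : b ∈ J.map f := by
  algebraize [f]
  let m : (R ⧸ J) →ₗ[R] (R ⧸ J) := LinearMap.lsmul R (R ⧸ J) x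
  have hm : Function.Injective m := (injective_iff_map_eq_zero _).2 fun z hz => by
    obtain ⟨a, rfl⟩ := Ideal.Quotient.mk_surjective z
    refine Ideal.Quotient.eq_zero_iff_mem.2 (hx a ?_)
    rw [← Ideal.Quotient.eq_zero_iff_mem, map_mul]
    exact hz
  have hi := Module.Flat.lTensor_preserves_injective_linearMap (M := B) m hm
  have hrest : (Submodule.restrictScalars R (J.map (algebraMap R B))) = J • (⊤ : Submodule R B) :=
    (Ideal.smul_top_eq_map J).symm
  let e : TensorProduct R B (R ⧸ J) ≃ₗ[R] B ⧸ (J • ⊤ : Submodule R B) :=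
    TensorProduct.tensorQuotEquivQuotSMul B J
  have hb' : x • b ∈ (J • ⊤ : Submodule R B) := by
    rw [← hrest, Submodule.restrictScalars_mem, Algebra.smul_def]
    exact hb
  have h0 : x • (e.symm (Submodule.Quotient.mk b)) = 0 := by
    rw [← map_smul, ← Submodule.Quotient.mk_smul, (Submodule.Quotient.mk_eq_zero _).2 hb', map_zero]
  have h1 : LinearMap.lTensor B m (e.symm (Submodule.Quotient.mk b)) = 0 := by
    rw [show LinearMap.lTensor B m = LinearMap.lsmul R (TensorProduct R B (R ⧸ J)) x from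
      TensorProduct.ext' fun y z => by simp [m, TensorProduct.tmul_smul]]
    exact h0
  have h2 : e.symm (Submodule.Quotient.mk b) = 0 := hi (h1.trans (map_zero _).symm)
  have h3 : b ∈ (J • ⊤ : Submodule R B) := by
    rw [← Submodule.Quotient.mk_eq_zero, ← e.symm.map_eq_zero_iff]
    exact h2
  rw [← hrest] at h3
  exact h3

variable (R) (p : ℕ) [Fact p.Prime] [CharP R p]

theorem natCast_top : (p : Γ(X R, ⊤)) = 0 := by
  rw [← map_natCast (iot R), CharP.cast_eq_zero R p, map_zero]

/-- The Frobenius of the additive group. -/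
def frob : EtCoh.Ga (X R) ⟶ EtCoh.Ga (X R) :=
  ArtinSchreier.frobSub p (natCast_top R p) + 𝟙 _

theorem frob_apply (V : (X R).Etale) (s : Γ(V.left, ⊤)) :
    ((frob R p).hom.app (op V) (ULift.up s) : EtCoh.sect (EtCoh.Ga (X R)) V) = ULift.up (s ^ p) := by
  refine ULift.ext _ _ ?_
  show (s ^ p - s) + s = s ^ p
  exact sub_add_cancel _ _

/-- Multiplication by an element of the base. -/
def mul (r : R) : EtCoh.Ga (X R) ⟶ EtCoh.Ga (X R) := GaEnd.mulC (iot R r)

theorem mul_apply (r : R) (V : (X R).Etale) (s : Γ(V.left, ⊤)) :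
    ((mul R r).hom.app (op V) (ULift.up s) : EtCoh.sect (EtCoh.Ga (X R)) V) =
      ULift.up (ψ R V r * s) := rfl

theorem mul_mul (r s : R) : mul R (r * s) = mul R s ≫ mul R r := by
  rw [mul, map_mul, GaEnd.mulC_mul]
  rfl

theorem mul_add' (r s : R) : mul R (r + s) = mul R r + mul R s := by
  rw [mul, map_add, GaEnd.mulC_add]
  rfl

theorem mul_one' : mul R 1 = 𝟙 _ := by
  rw [mul, map_one, GaEnd.mulC_one]

theorem mul_frob (r : R) : mul R r ≫ frob R p = frob R p ≫ mul R (r ^ p) := by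
  apply Sheaf.hom_ext
  ext U x
  obtain ⟨s⟩ := x
  show ((frob R p).hom.app (op U.unop) ((mul R r).hom.app (op U.unop) (ULift.up s))) =
    ((mul R (r ^ p)).hom.app (op U.unop) ((frob R p).hom.app (op U.unop) (ULift.up s)))
  erw [mul_apply, frob_apply, frob_apply, mul_apply]
  rw [map_pow, mul_pow]

/-- A quotient of the additive group by an ideal of the base, with its endomorphisms. -/
structure QD (J : Ideal R) : Type (u + 2) where
  G : EtCoh.Ab (X R)
  pr : EtCoh.Ga (X R) ⟶ G
  epi : Epi pr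
  ker : ∀ (V : (X R).Etale), IsAffine V.left → ∀ s : Γ(V.left, ⊤),
    pr.hom.app (op V) (ULift.up s) = 0 ↔ s ∈ J.map (ψ R V)
  μ : R → (G ⟶ G)
  hμ : ∀ r, mul R r ≫ pr = pr ≫ μ r
  φ : G ⟶ G
  hφ : frob R p ≫ pr = pr ≫ φ

/-- The additive group itself. -/
def QD.triv : QD R p ⊥ where
  G := EtCoh.Ga (X R)
  pr := 𝟙 _
  epi := inferInstance
  ker V _ s := by
    rw [Ideal.map_bot, Ideal.mem_bot]
    exact ⟨fun h => congrArg ULift.down h, fun h => ULift.ext _ _ h⟩
  μ := mul R
  hμ r := by rw [Category.comp_id, Category.id_comp]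
  φ := frob R p
  hφ := by rw [Category.comp_id, Category.id_comp]

variable {R p} {J : Ideal R} (D : QD R p J)

theorem QD.μ_mul (r s : R) : D.μ (r * s) = D.μ s ≫ D.μ r := by
  have := D.epi
  rw [← cancel_epi D.pr, ← D.hμ, mul_mul, Category.assoc, D.hμ, reassoc_of% (D.hμ s)]

theorem QD.μ_comm (r s : R) : D.μ r ≫ D.μ s = D.μ s ≫ D.μ r := by
  rw [← D.μ_mul, ← D.μ_mul, mul_comm]

theorem QD.μ_add (r s : R) : D.μ (r + s) = D.μ r + D.μ s := by
  have := D.epi
  rw [← cancel_epi D.pr, ← D.hμ, mul_add', Preadditive.add_comp, Preadditive.comp_add, D.hμ, D.hμ]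

theorem QD.μ_one : D.μ 1 = 𝟙 _ := by
  have := D.epi
  rw [← cancel_epi D.pr, ← D.hμ, mul_one', Category.id_comp, Category.comp_id]

theorem QD.μ_φ (r : R) : D.μ r ≫ D.φ = D.φ ≫ D.μ (r ^ p) := by
  have := D.epi
  rw [← cancel_epi D.pr, ← reassoc_of% (D.hμ r), ← D.hφ, ← Category.assoc, mul_frob, Category.assoc,
    D.hμ, reassoc_of% D.hφ]

theorem QD.μ_app_pr (r : R) (V : (X R).Etale) (b : Γ(V.left, ⊤)) :
    (D.μ r).hom.app (op V) (D.pr.hom.app (op V) (ULift.up b)) =
      D.pr.hom.app (op V) (ULift.up (ψ R V r * b)) :=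
  (ConcreteCategory.congr_hom (congrArg (fun m : EtCoh.Ga (X R) ⟶ D.G => m.hom.app (op V)) (D.hμ r))
    (ULift.up b : EtCoh.sect (EtCoh.Ga (X R)) V)).symm

theorem QD.exists_lift (V : (X R).Etale) [IsAffine V.left] (t : EtCoh.sect D.G V) :
    ∃ (W : (X R).Etale) (v : W ⟶ V), IsAffine W.left ∧ Flat v.left ∧ Surjective v.left ∧
      ∃ b : Γ(W.left, ⊤), D.pr.hom.app (op W) (ULift.up b) = D.G.obj.map v.op t := by
  have := D.epi
  obtain ⟨W, v, h1, h2, h3, ⟨b⟩, hb⟩ := AffGood.exists_affine_lift D.pr V t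
  exact ⟨W, v, h1, h2, h3, b, hb⟩

theorem QD.pr_res {V W : (X R).Etale} (v : W ⟶ V) (s : Γ(V.left, ⊤)) :
    D.pr.hom.app (op W) (ULift.up (v.left.appTop.hom s)) =
      D.G.obj.map v.op (D.pr.hom.app (op V) (ULift.up s)) :=
  NatTrans.naturality_apply D.pr.hom v.op (ULift.up s : EtCoh.sect (EtCoh.Ga (X R)) V)

variable (x : R) (hx : ∀ a, x * a ∈ J → a ∈ J)
include hx

theorem QD.mono_μ : Mono (D.μ x) := by
  have key : ∀ (V : (X R).Etale) (t : EtCoh.sect D.G V), (D.μ x).hom.app (op V) t = 0 → t = 0 := by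
    intro V t ht
    refine Stalk.sections_ext D.G t 0 fun u => ?_
    have : Etale V.hom := V.prop
    obtain ⟨C, j, hj, ⟨c, hc⟩, -⟩ := Scheme.exists_affine_mem_range_and_range_subset
      (x := u) (U := (⊤ : V.left.Opens)) trivial
    let V' : (X R).Etale := MorphismProperty.Over.mk ⊤ (j ≫ V.hom) (show Etale _ from inferInstance)
    let g : V' ⟶ V := MorphismProperty.Over.homMk j rfl
    have : IsAffine V'.left := inferInstanceAs (IsAffine (Spec C))
    obtain ⟨W, v, hW, hv, hv', b, hb⟩ := D.exists_lift V' (D.G.obj.map g.op t)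
    have hz : D.pr.hom.app (op W) (ULift.up (ψ R W x * b)) = 0 := by
      rw [← D.μ_app_pr, hb, NatTrans.naturality_apply, NatTrans.naturality_apply, ht, map_zero, map_zero]
    have hbJ := mem_map_of_mul_mem (flat_ψ R W) hx ((D.ker W hW _).1 hz)
    rw [(D.ker W hW b).2 hbJ] at hb
    refine ⟨W, v ≫ g, ?_, ?_⟩
    · rw [map_zero, op_comp, D.G.obj.map_comp, ConcreteCategory.comp_apply, ← hb]
    · obtain ⟨w, hw⟩ := v.left.surjective c
      exact ⟨w, show j (v.left w) = u by rw [hw]; exact hc⟩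
  rw [Preadditive.mono_iff_cancel_zero]
  intro P g hg
  apply Sheaf.hom_ext
  ext U a
  exact key U.unop _ (ConcreteCategory.congr_hom (congrArg (fun m : P ⟶ D.G => m.hom.app U) hg) a)

omit hx

theorem QD.desc_μ (r : R) : D.μ x ≫ D.μ r ≫ cokernel.π (D.μ x) = 0 := by
  rw [← Category.assoc, D.μ_comm, Category.assoc, cokernel.condition, comp_zero]

theorem QD.desc_φ : D.μ x ≫ D.φ ≫ cokernel.π (D.μ x) = 0 := by
  have hp : x ^ p = x * x ^ (p - 1) := by
    rw [← pow_succ', Nat.sub_add_cancel (Fact.out : p.Prime).one_lt.le]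
  rw [← Category.assoc, D.μ_φ, hp, D.μ_mul, Category.assoc, Category.assoc, cokernel.condition,
    comp_zero, comp_zero]

include hx

theorem QD.ker_next (V : (X R).Etale) (hV : IsAffine V.left) (s : Γ(V.left, ⊤)) :
    (D.pr ≫ cokernel.π (D.μ x)).hom.app (op V) (ULift.up s) = 0 ↔
      s ∈ (J ⊔ Ideal.span {x}).map (ψ R V) := by
  have := D.mono_μ x hx
  let S : ShortComplex (EtCoh.Ab (X R)) := ShortComplex.mk (D.μ x) (cokernel.π (D.μ x)) (cokernel.condition _)
  have hS : S.Exact := ShortComplex.exact_of_g_is_cokernel S (cokernelIsCokernel _)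
  have : Mono S.f := this
  rw [Ideal.map_sup, Ideal.map_span, Set.image_singleton]
  constructor
  · intro h
    obtain ⟨t, ht⟩ := AffGood.exists_section_of_exact hS V (D.pr.hom.app (op V) (ULift.up s)) h
    obtain ⟨W, v, hW, hv, hv', b, hb⟩ := D.exists_lift V t
    have h1 : D.pr.hom.app (op W) (ULift.up (ψ R W x * b)) =
        D.pr.hom.app (op W) (ULift.up (v.left.appTop.hom s)) := by
      rw [← D.μ_app_pr, hb, NatTrans.naturality_apply, D.pr_res]
      exact congrArg _ ht
    have h2 : D.pr.hom.app (op W) (ULift.up (v.left.appTop.hom s - ψ R W x * b)) = 0 := by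
      have h3 := map_sub (D.pr.hom.app (op W)).hom
        (ULift.up (v.left.appTop.hom s) : EtCoh.sect (EtCoh.Ga (X R)) W) (ULift.up (ψ R W x * b))
      exact h3.trans (sub_eq_zero.2 h1.symm)
    have h4 := (D.ker W hW _).1 h2
    have h5 : v.left.appTop.hom s ∈ (J ⊔ Ideal.span {x}).map (ψ R W) := by
      rw [Ideal.map_sup, Ideal.map_span, Set.image_singleton, ← sub_add_cancel (v.left.appTop.hom s) (ψ R W x * b)]
      exact Submodule.add_mem_sup h4 (Ideal.mul_mem_right _ _ (Ideal.mem_span_singleton_self _))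
    have h6 := mem_of_cover v h5
    rwa [Ideal.map_sup, Ideal.map_span, Set.image_singleton] at h6
  · intro h
    obtain ⟨a, ha, c, hc, rfl⟩ := Submodule.mem_sup.1 h
    obtain ⟨d, rfl⟩ := Ideal.mem_span_singleton'.1 hc
    have h1 : (ULift.up (a + d * ψ R V x) : EtCoh.sect (EtCoh.Ga (X R)) V) =
      ULift.up a + ULift.up (ψ R V x * d) := by rw [mul_comm d]; rfl
    show (cokernel.π (D.μ x)).hom.app (op V) (D.pr.hom.app (op V) _) = 0
    rw [h1]
    erw [map_add, map_add, (D.ker V hV a).2 ha, map_zero, zero_add, ← D.μ_app_pr]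
    exact AffGood.app_comp_zero (S := S) (op V) _

/-- Dividing by one further element. -/
def QD.next : QD R p (J ⊔ Ideal.span {x}) where
  G := cokernel (D.μ x)
  pr := D.pr ≫ cokernel.π (D.μ x)
  epi := by have := D.epi; infer_instance
  ker := D.ker_next x hx
  μ r := cokernel.desc (D.μ x) (D.μ r ≫ cokernel.π (D.μ x)) (D.desc_μ x r)
  hμ r := by rw [← Category.assoc, D.hμ, Category.assoc, Category.assoc, cokernel.π_desc]
  φ := cokernel.desc (D.μ x) (D.φ ≫ cokernel.π (D.μ x)) (D.desc_φ x)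
  hφ := by rw [← Category.assoc, D.hφ, Category.assoc, Category.assoc, cokernel.π_desc]

end Groth.Agent.Lib.FInj62
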