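import Groth.Agent.Lib.FInj62.Quot

/-!
# Frobenius on the socle of local cohomology with supports of the additive group
-/

set_option autoImplicit false

universe u

open CategoryTheory CategoryTheory.Limits CategoryTheory.Abelian AlgebraicGeometry Opposite

noncomputable section

namespace Groth.Agent.Lib.FInj62

open Groth.Agent.Lib.EtJ Groth.Agent.Lib.EtSite

variable {R : Type u} [CommRing R] [HenselianLocalRing R] [IsSepClosed (IsLocalRing.ResidueField R)]
  {p : ℕ} [Fact p.Prime] [CharP R p]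

/-- A chain of regular elements ending in the maximal ideal. -/
def Chain : List R → Ideal R → Prop
  | [], J => J = IsLocalRing.maximalIdeal R
  | x :: l, J => (∀ a, x * a ∈ J → a ∈ J) ∧ x ∈ IsLocalRing.maximalIdeal R ∧ Chain l (J ⊔ Ideal.span {x})

omit [HenselianLocalRing R] [IsSepClosed (IsLocalRing.ResidueField R)] in
theorem iot_map_eq (J : Ideal R) {a : R}
    (h : iot R a ∈ J.map (ψ R (EtCoh.top (X R)))) : a ∈ J := by
  have e : ψ R (EtCoh.top (X R)) = iot R := by
    ext r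
    show (𝟙 (X R) : X R ⟶ X R).appTop.hom (iot R r) = iot R r
    rw [Scheme.Hom.id_appTop]
    rfl
  rw [e] at h
  have hbij : Function.Bijective (iot R) :=
    ConcreteCategory.bijective_of_isIso (Scheme.ΓSpecIso (CommRingCat.of R)).inv
  obtain ⟨b, hb, hba⟩ := (Ideal.mem_map_iff_of_surjective (iot R) hbij.2).1 h
  rwa [← hbij.1 hba]

omit [HenselianLocalRing R] [IsSepClosed (IsLocalRing.ResidueField R)] in
theorem QD.pr_frob {J : Ideal R} (D : QD R p J) (V : (X R).Etale) (t : Γ(V.left, ⊤)) :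
    D.pr.hom.app (op V) (ULift.up (t ^ p)) = D.φ.hom.app (op V) (D.pr.hom.app (op V) (ULift.up t)) := by
  refine Eq.trans (congrArg (fun v => D.pr.hom.app (op V) v) (frob_apply R p V t).symm) ?_
  exact ConcreteCategory.congr_hom (congrArg (fun m : EtCoh.Ga (X R) ⟶ D.G => m.hom.app (op V)) D.hφ)
    (ULift.up t : EtCoh.sect (EtCoh.Ga (X R)) V)

variable {U : Scheme.{u}} (j : U ⟶ X R) [IsOpenImmersion j]

/-- Classes with supports. -/
abbrev EG {J : Ideal R} (D : QD R p J) (n : ℕ) : Type (u + 1) :=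
  Ext.{u + 1} (H91.EtASDepth.suppObj j) D.G n

/-- Postcomposition. -/
abbrev pc {A B C : EtCoh.Ab (X R)} {n : ℕ} (z : Ext.{u + 1} A B n) (m : B ⟶ C) : Ext.{u + 1} A C n :=
  z.comp (Ext.mk₀ m) (add_zero n)

omit [HenselianLocalRing R] [IsSepClosed (IsLocalRing.ResidueField R)] in
theorem pc_pc {A B C C' : EtCoh.Ab (X R)} {n : ℕ} (z : Ext.{u + 1} A B n) (m : B ⟶ C) (m' : C ⟶ C') :
    pc (pc z m) m' = pc z (m ≫ m') := by
  show (z.comp _ _).comp _ _ = z.comp _ _
  rw [Ext.comp_assoc_of_third_deg_zero, Ext.mk₀_comp_mk₀]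

theorem sock_nil (J : Ideal R) (D : QD R p J) (hJ : J = IsLocalRing.maximalIdeal R) :
    ∃ c : R, (([] : List R) ≠ [] → c ∈ IsLocalRing.maximalIdeal R) ∧
      (∀ r ∈ IsLocalRing.maximalIdeal R, r * c ∈ J ⊔ (IsLocalRing.maximalIdeal R).map (frobenius R p)) ∧
      ∀ z : EG j D 0, (∀ r ∈ IsLocalRing.maximalIdeal R, pc z (D.μ r) = 0) → z ≠ 0 →
        pc z (D.φ ≫ D.μ c) ≠ 0 := by
  refine ⟨1, fun h => absurd rfl h, fun r hr => Ideal.mem_sup_left (by rw [_root_.mul_one, hJ]; exact hr),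
    fun z _ hz hcon => hz ?_⟩
  rw [D.μ_one, Category.comp_id] at hcon
  obtain ⟨w, rfl⟩ := (Ext.mk₀_bijective _ _).2 z
  rw [pc, Ext.mk₀_comp_mk₀] at hcon
  have hw : w ≫ D.φ = 0 := (Ext.mk₀_bijective _ _).1 (hcon.trans (Ext.mk₀_zero _ _).symm)
  let π := cokernel.π (MayerVietoris.aug j)
  let s := PullSec.elem (X R) D.G (π ≫ w)
  have hs : D.φ.hom.app (op (EtCoh.top (X R))) s = 0 := by
    rw [← PullSec.elem_comp, Category.assoc, hw, comp_zero, map_zero]
  have := D.epi
  have := StrictHens.gsec_preservesEpimorphisms R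
  obtain ⟨⟨a⟩, ha⟩ := (AddCommGrpCat.epi_iff_surjective _).1
    ((EtCore.gsec (X R)).map_epi D.pr) s
  obtain ⟨b, rfl⟩ := (ConcreteCategory.bijective_of_isIso
    (Scheme.ΓSpecIso (CommRingCat.of R)).inv).2 a
  have haff : IsAffine (EtCoh.top (X R)).left := inferInstanceAs (IsAffine (Spec (CommRingCat.of R)))
  have ha' : D.pr.hom.app (op (EtCoh.top (X R))) (ULift.up (iot R b)) = s := ha
  have h1 : D.pr.hom.app (op (EtCoh.top (X R))) (ULift.up (iot R b ^ p)) = 0 := by
    exact ((D.pr_frob (EtCoh.top (X R)) (iot R b)).trans ((congrArg (fun t => D.φ.hom.app (op (EtCoh.top (X R))) t) ha').trans hs))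
  have h2 := (D.ker _ haff _).1 h1
  rw [← map_pow] at h2
  have h3 := iot_map_eq J h2
  rw [hJ] at h3
  have h4 : b ∈ J := hJ ▸ (IsLocalRing.maximalIdeal.isMaximal R).isPrime.mem_of_pow_mem _ h3
  have h5 : s = 0 := by
    rw [← ha']
    refine (D.ker _ haff _).2 ?_
    have e : ψ R (EtCoh.top (X R)) b = iot R b := by
      show (𝟙 (X R) : X R ⟶ X R).appTop.hom (iot R b) = iot R b
      rw [Scheme.Hom.id_appTop]
      rfl
    rw [← e]
    exact Ideal.mem_map_of_mem _ h4
  have h6 : π ≫ w = π ≫ 0 := by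
    rw [comp_zero]
    exact (PullSec.elem (X R) D.G).injective (h5.trans (map_zero _).symm)
  rw [(cancel_epi π).1 h6, Ext.mk₀_zero]

/-- Some multiple of the Frobenius is injective on the socle. -/
theorem sock : ∀ (l : List R) (J : Ideal R) (D : QD R p J), Chain l J →
    (∀ q < l.length, Subsingleton ((EG j D (q)))) →
    ∃ c : R, (l ≠ [] → c ∈ IsLocalRing.maximalIdeal R) ∧
      (∀ r ∈ IsLocalRing.maximalIdeal R, r * c ∈ J ⊔ (IsLocalRing.maximalIdeal R).map (frobenius R p)) ∧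
      ∀ z : (EG j D (l.length)), (∀ r ∈ IsLocalRing.maximalIdeal R, pc z (D.μ r) = 0) → z ≠ 0 →
        pc z (D.φ ≫ D.μ c) ≠ 0
  | [], J, D, hc, _ => sock_nil j J D hc
  | x :: l, J, D, ⟨hx, hxm, hc⟩, hvan => by
    have := D.mono_μ x hx
    let S : ShortComplex (EtCoh.Ab (X R)) :=
      ShortComplex.mk (D.μ x) (cokernel.π (D.μ x)) (cokernel.condition _)
    have hS : S.ShortExact :=
      { exact := ShortComplex.exact_of_g_is_cokernel S (cokernelIsCokernel _)
        mono_f := this }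
    let D' := D.next x hx
    have hvan' : ∀ q < l.length, Subsingleton ((EG j D' (q))) := fun q hq => by
      refine subsingleton_of_forall_eq 0 fun e => ?_
      have h1 : Subsingleton (Ext.{u + 1} (H91.EtASDepth.suppObj j) S.X₁ (q + 1)) :=
        hvan (q + 1) (by simp only [List.length_cons]; omega)
      have h2 : Subsingleton (Ext.{u + 1} (H91.EtASDepth.suppObj j) S.X₂ q) :=
        hvan q (by simp only [List.length_cons]; omega)
      have hinj := EtQCoh.CompareEnd.δ_injective (H91.EtASDepth.suppObj j) hS q h2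
      exact hinj (h1.elim _ _)
    obtain ⟨c', -, hsoc', hinj'⟩ := sock l _ D' hc hvan'
    have hp1 : 1 ≤ p - 1 := by have := (Fact.out : p.Prime).two_le; omega
    have hxp : x * x ^ (p - 1) = x ^ p := by
      rw [← pow_succ', Nat.sub_add_cancel (Fact.out : p.Prime).one_lt.le]
    refine ⟨c' * x ^ (p - 1),
      fun _ => Ideal.mul_mem_left _ _ (Ideal.pow_mem_of_mem _ hxm _ hp1),
      fun r hr => ?_, fun z hsz hz hcon => hz ?_⟩
    · obtain ⟨a, ha, b, hb, hab⟩ := Submodule.mem_sup.1 (hsoc' r hr)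
      obtain ⟨a₁, ha₁, a₂, ha₂, rfl⟩ := Submodule.mem_sup.1 ha
      obtain ⟨t, rfl⟩ := Ideal.mem_span_singleton'.1 ha₂
      rw [← _root_.mul_assoc, ← hab, add_mul, add_mul, _root_.mul_assoc t, hxp]
      refine Submodule.add_mem _ (Submodule.add_mem _ ?_ ?_) ?_
      · exact Ideal.mem_sup_left (Ideal.mul_mem_right _ _ ha₁)
      · exact Ideal.mem_sup_right (Ideal.mul_mem_left _ _ (by
          rw [← frobenius_def]; exact Ideal.mem_map_of_mem _ hxm))
      · exact Ideal.mem_sup_right (Ideal.mul_mem_right _ _ hb)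
    · obtain ⟨w, hw⟩ := Ext.covariant_sequence_exact₁ (H91.EtASDepth.suppObj j) hS
        (show Ext.{u + 1} (H91.EtASDepth.suppObj j) S.X₁ (l.length + 1) from z) (hsz x hxm) rfl
      have hδ : Function.Injective (EtQCoh.CompareEnd.δ (H91.EtASDepth.suppObj j) hS l.length) :=
        EtQCoh.CompareEnd.δ_injective _ hS _ (hvan l.length (by simp))
      have hμ : ∀ r, (EtQCoh.CompareEnd.δ (H91.EtASDepth.suppObj j) hS l.length w).comp
          (Ext.mk₀ (D.μ r)) (add_zero _) =
            EtQCoh.CompareEnd.δ (H91.EtASDepth.suppObj j) hS l.length (pc w (D'.μ r)) := fun r => by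
        let f : S ⟶ S := ⟨D.μ r, D.μ r, D'.μ r, D.μ_comm r x, (cokernel.π_desc _ _ _).symm⟩
        exact EtQCoh.CompareEnd.δ_comp _ hS _ _ (ShortComplex.ShortExact.extClass_naturality hS hS f)
      have hφx : (D.φ ≫ D.μ (x ^ (p - 1))) ≫ D.μ x = D.μ x ≫ D.φ := by
        rw [D.μ_φ, Category.assoc, ← D.μ_mul, hxp]
      have hφ : (EtQCoh.CompareEnd.δ (H91.EtASDepth.suppObj j) hS l.length w).comp
          (Ext.mk₀ (D.φ ≫ D.μ (x ^ (p - 1)))) (add_zero _) =
            EtQCoh.CompareEnd.δ (H91.EtASDepth.suppObj j) hS l.length (pc w D'.φ) := by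
        let f : S ⟶ S := ⟨D.φ ≫ D.μ (x ^ (p - 1)), D.φ, D'.φ, hφx, (cokernel.π_desc _ _ _).symm⟩
        exact EtQCoh.CompareEnd.δ_comp _ hS _ _ (ShortComplex.ShortExact.extClass_naturality hS hS f)
      have hw' : EtQCoh.CompareEnd.δ (H91.EtASDepth.suppObj j) hS l.length w = z := hw
      have hwsoc : ∀ r ∈ IsLocalRing.maximalIdeal R, pc w (D'.μ r) = 0 := fun r hr => hδ (by
        refine ((hμ r).symm.trans ?_).trans (map_zero _).symm
        rw [hw']
        exact hsz r hr)
      by_contra hz'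
      refine hinj' w hwsoc (fun h0 => hz' (hw'.symm.trans ((congrArg _ h0).trans (map_zero _)))) (hδ ?_)
      refine Eq.trans ?_ (map_zero _).symm
      have e1 : EtQCoh.CompareEnd.δ (H91.EtASDepth.suppObj j) hS l.length (pc w (D'.φ ≫ D'.μ c')) =
          EtQCoh.CompareEnd.δ (H91.EtASDepth.suppObj j) hS l.length (pc (pc w D'.φ) (D'.μ c')) :=
        congrArg _ (pc_pc w D'.φ (D'.μ c')).symm
      refine e1.trans ?_
      have e2 : ∀ v, EtQCoh.CompareEnd.δ (H91.EtASDepth.suppObj j) hS l.length (pc v (D'.μ c')) =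
          (EtQCoh.CompareEnd.δ (H91.EtASDepth.suppObj j) hS l.length v).comp
            (Ext.mk₀ (D.μ c')) (add_zero _) := fun v => by
        let f : S ⟶ S := ⟨D.μ c', D.μ c', D'.μ c', D.μ_comm c' x, (cokernel.π_desc _ _ _).symm⟩
        exact (EtQCoh.CompareEnd.δ_comp _ hS _ v (ShortComplex.ShortExact.extClass_naturality hS hS f)).symm
      refine (e2 _).trans ?_
      have e : pc (pc (show Ext.{u + 1} (H91.EtASDepth.suppObj j) D.G (l.length + 1) from z)
          (D.φ ≫ D.μ (x ^ (p - 1)))) (D.μ c') = 0 := by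
        rw [pc_pc, Category.assoc, ← D.μ_mul]
        exact hcon
      refine ((congrArg (fun v => Ext.comp v (Ext.mk₀ (D.μ c')) (add_zero (l.length + 1))) hφ.symm)).trans ?_
      exact (congrArg (fun v => Ext.comp (Ext.comp v (Ext.mk₀ (D.φ ≫ D.μ (x ^ (p - 1)))) (add_zero (l.length + 1)))
        (Ext.mk₀ (D.μ c')) (add_zero (l.length + 1))) hw').trans e

end Groth.Agent.Lib.FInj62
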